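import Groth.Agent.L27.StalkRpush.PreComp
import Groth.Prelude.Def_RDer

/-! The first edge map is invertible when the higher derived functors of the inner functor vanish. -/

universe v₁ v₂ v₃ u₁ u₂ u₃

open CategoryTheory CategoryTheory.Limits

set_option backward.defeqAttrib.useBackward true
set_option backward.isDefEq.respectTransparency false
set_option linter.style.haveILetI false
set_option linter.unusedSectionVars false

namespace Groth.L28.Edge

variable {A : Type u₁} [Category.{v₁} A] [Abelian A] [HasInjectiveResolutions A]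
  {B : Type u₂} [Category.{v₂} B] [Abelian B] [HasInjectiveResolutions B]
  {C : Type u₃} [Category.{v₃} C] [Abelian C]
  (Φ : A ⥤ B) [Φ.Additive] [Φ.PreservesInjectiveObjects] [PreservesFiniteLimits Φ]
  (Ψ : B ⥤ C) [Ψ.Additive]

theorem mapAug_f_zero {X : A} (I : InjectiveResolution X) :
    (RDer.mapAug Φ I.ι).f 0 = Φ.map (I.ι.f 0) := by
  simp [RDer.mapAug, HomologicalComplex.singleMapHomologicalComplex]

theorem quasiIso_mapAug {X : A} (I : InjectiveResolution X)
    (h : ∀ q : ℕ, 0 < q → IsZero ((Φ.rightDerived q).obj X)) : QuasiIso (RDer.mapAug Φ I.ι) := by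
  refine ⟨fun n => ?_⟩
  cases n with
  | zero =>
    rw [CochainComplex.quasiIsoAt₀_iff, ShortComplex.quasiIso_iff_of_zeros]
    · have hex := (I.exact₀).map_of_mono_of_preservesKernel Φ inferInstance inferInstance
      refine (ShortComplex.exact_and_mono_f_iff_of_iso ?_).2
        ⟨hex, inferInstanceAs (Mono (Φ.map (I.ι.f 0)))⟩
      refine ShortComplex.isoMk (Iso.refl _) (Iso.refl _) (Iso.refl _) ?_ ?_
      · dsimp
        simp
      · dsimp
        simp
    all_goals simp
  | succ n =>
    rw [quasiIsoAt_iff_exactAt]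
    · rw [HomologicalComplex.exactAt_iff_isZero_homology]
      exact (h (n + 1) n.succ_pos).of_iso (I.isoRightDerivedObj Φ (n + 1)).symm
    · exact CochainComplex.exactAt_succ_single_obj _ _

theorem isIso_edgeIn (q : ℕ) (X : A) (h : ∀ q : ℕ, 0 < q → IsZero ((Φ.rightDerived q).obj X)) :
    IsIso (RDer.edgeIn Φ Ψ q X) := by
  let I := injectiveResolution X
  let J := injectiveResolution (Φ.obj X)
  haveI := quasiIso_mapAug Φ I h
  let J' : InjectiveResolution (Φ.obj X) :=
    { cocomplex := (Φ.mapHomologicalComplex _).obj I.cocomplex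
      injective := fun n => Φ.injective_obj (I.cocomplex.X n)
      ι := RDer.mapAug Φ I.ι }
  haveI : ∀ n, Injective (((Φ.mapHomologicalComplex _).obj I.cocomplex).X n) := J'.injective
  let f := RDer.descToInjectives (𝟙 (Φ.obj X)) J.cocomplex J.ι
    ((Φ.mapHomologicalComplex _).obj I.cocomplex) (RDer.mapAug Φ I.ι)
  let e := InjectiveResolution.homotopyEquiv J J'
  have hh : Homotopy f e.hom := Groth.L27.StalkRpush.homotopyOfAug J.ι _ _ (by
    simp only [f]
    rw [RDer.ι_descToInjectives_f_zero]
    exact (InjectiveResolution.desc_commutes_zero (𝟙 _) J' J).symm)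
  let F := (Ψ.mapHomologicalComplex (ComplexShape.up ℕ))
  have hiso : IsIso ((HomologicalComplex.homologyFunctor C _ q).map (F.map f)) := by
    have := (Ψ.mapHomotopy hh).homologyMap_eq q
    rw [HomologicalComplex.homologyFunctor_map, this]
    exact ((Ψ.mapHomotopyEquiv e).toHomologyIso q).isIso_hom
  dsimp only [RDer.edgeIn]
  exact IsIso.comp_isIso' inferInstance (IsIso.comp_isIso' hiso inferInstance)

end Groth.L28.Edge
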